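import Mathlib
import Groth.Agent.FlatDescent.DivFlatFP.Basic
import Groth.Agent.RegSeq.Imm
import Groth.Agent.S8894

/-!
# An `H_1`-regular sequence with flat quotient forces flatness (finitely presented case)
-/

set_option autoImplicit false

universe u

open AlgebraicGeometry CategoryTheory TensorProduct
open Groth.Agent Groth.Agent.RegSeq RingTheory.Sequence

namespace Groth.Agent.H1Flat

/-- Trivial relations involving the last index. -/
theorem triv_snoc {R : Type u} [CommRing R] {n : ℕ} (t : Fin (n + 1) → R) {v : Fin (n + 1) → R}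
    (hv : v ∈ triv t) : ∃ c : Fin n → R, ∃ v' ∈ triv (t ∘ Fin.castSucc),
      v = Fin.snoc (v' + t (Fin.last n) • c) (-∑ k, c k * t k.castSucc) := by
  induction hv using Submodule.span_induction with
  | mem v hv =>
    obtain ⟨i, j, rfl⟩ := hv
    induction i using Fin.lastCases with
    | last =>
      induction j using Fin.lastCases with
      | last => exact ⟨0, 0, zero_mem _, funext fun k => by induction k using Fin.lastCases <;> simp⟩
      | cast j =>
        refine ⟨-Pi.single j 1, 0, zero_mem _, funext fun k => ?_⟩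
        induction k using Fin.lastCases with
        | last => simp [Pi.single_apply, Fin.castSucc_ne_last, (Fin.castSucc_ne_last j).symm]
        | cast k => simp [Pi.single_apply, Fin.castSucc_ne_last, Fin.castSucc_inj]
    | cast i =>
      induction j using Fin.lastCases with
      | last =>
        refine ⟨Pi.single i 1, 0, zero_mem _, funext fun k => ?_⟩
        induction k using Fin.lastCases with
        | last => simp [Pi.single_apply, Fin.castSucc_ne_last, (Fin.castSucc_ne_last i).symm]
        | cast k => simp [Pi.single_apply, Fin.castSucc_ne_last, Fin.castSucc_inj]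
      | cast j =>
        refine ⟨0, _, triv_gen (t ∘ Fin.castSucc) i j, funext fun k => ?_⟩
        induction k using Fin.lastCases with
        | last => simp [Pi.single_apply, (Fin.castSucc_ne_last i).symm, (Fin.castSucc_ne_last j).symm]
        | cast k => simp [Pi.single_apply, Fin.castSucc_inj]
  | zero => exact ⟨0, 0, zero_mem _, funext fun k => by induction k using Fin.lastCases <;> simp⟩
  | add x y _ _ hx hy =>
    obtain ⟨c, v, hv, rfl⟩ := hx
    obtain ⟨d, w, hw, rfl⟩ := hy
    refine ⟨c + d, v + w, add_mem hv hw, funext fun k => ?_⟩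
    induction k using Fin.lastCases <;> simp [add_mul, Finset.sum_add_distrib] <;> ring
  | smul r x _ hx =>
    obtain ⟨c, v, hv, rfl⟩ := hx
    refine ⟨r • c, r • v, Submodule.smul_mem _ r hv, funext fun k => ?_⟩
    induction k using Fin.lastCases <;> simp [Finset.mul_sum, mul_assoc] <;> ring

theorem emb_mem_triv {R : Type u} [CommRing R] {n : ℕ} (t : Fin (n + 1) → R) :
    ∃ L : (Fin n → R) →ₗ[R] (Fin (n + 1) → R), (∀ w, L w = Fin.snoc w 0) ∧
      ∀ w ∈ triv (t ∘ Fin.castSucc), L w ∈ triv t := by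
  let L : (Fin n → R) →ₗ[R] (Fin (n + 1) → R) :=
    { toFun := fun w => Fin.snoc w 0
      map_add' := fun a b => funext fun k => by induction k using Fin.lastCases <;> simp
      map_smul' := fun r a => funext fun k => by induction k using Fin.lastCases <;> simp }
  refine ⟨L, fun _ => rfl, fun w hw => ?_⟩
  refine (Submodule.span_le (p := (triv t).comap L)).2 ?_ hw
  rintro _ ⟨i, j, rfl⟩
  show L _ ∈ triv t
  convert triv_gen t i.castSucc j.castSucc using 1
  funext k
  show Fin.snoc (α := fun _ => R) _ 0 k = _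
  induction k using Fin.lastCases with
  | last => simp [Pi.single_apply, (Fin.castSucc_ne_last i).symm, (Fin.castSucc_ne_last j).symm]
  | cast k => simp [Pi.single_apply, Fin.castSucc_inj]

theorem exists_lift_triv {R F : Type u} [CommRing R] [CommRing F] (φ : R →+* F) (hφ : Function.Surjective φ)
    {n : ℕ} (a : Fin n → R) {x : Fin n → F} (hx : x ∈ triv (φ ∘ a)) : ∃ v ∈ triv a, φ ∘ v = x := by
  induction hx using Submodule.span_induction with
  | mem v hv =>
    obtain ⟨i, j, rfl⟩ := hv
    refine ⟨_, triv_gen a i j, funext fun k => ?_⟩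
    simp [Pi.single_apply, apply_ite φ]
  | zero => exact ⟨0, zero_mem _, funext fun k => by simp⟩
  | add x y _ _ hx hy =>
    obtain ⟨d, hd, rfl⟩ := hx
    obtain ⟨e, he, rfl⟩ := hy
    exact ⟨d + e, add_mem hd he, funext fun k => by simp⟩
  | smul r x _ hx =>
    obtain ⟨d, hd, rfl⟩ := hx
    obtain ⟨r, rfl⟩ := hφ r
    exact ⟨r • d, Submodule.smul_mem _ r hd, funext fun k => by simp⟩

/-- Trivial relations vanishing modulo `K` come from trivial relations with coefficients in `K`. -/
theorem mem_smul_triv {R F : Type u} [CommRing R] [CommRing F] (φ : R →+* F) (hφ : Function.Surjective φ) :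
    ∀ (n : ℕ) (t : Fin n → R), IsWeaklyRegular F (List.ofFn (φ ∘ t)) →
      ∀ v ∈ triv t, (∀ i, φ (v i) = 0) → v ∈ RingHom.ker φ • triv t := by
  intro n
  induction n with
  | zero =>
    intro t _ v _ _
    rw [show v = 0 from funext fun i => i.elim0]
    exact zero_mem _
  | succ n ih =>
    intro t ht v hv hv0
    rw [List.ofFn_succ', List.concat_eq_append, isWeaklyRegular_append_iff] at ht
    have ht' : IsWeaklyRegular F (List.ofFn (φ ∘ (t ∘ Fin.castSucc))) := ht.1
    obtain ⟨c, v', hv', rfl⟩ := triv_snoc t hv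
    have h1 : CAlgX.IsH1Regular (φ ∘ (t ∘ Fin.castSucc)) := by
      have := isH1Regular_of_isKoszulRegularSeq (isKoszulRegularSeq_of_isWeaklyRegular ht')
      have key : ∀ {c d : ℕ} (h : c = d) (g : Fin d → F), CAlgX.IsH1Regular (g ∘ Fin.cast h) → CAlgX.IsH1Regular g := by
        intro c d h g hg
        subst h
        exact hg
      refine key (List.length_ofFn (f := φ ∘ (t ∘ Fin.castSucc))) _ ?_
      convert this using 1
      funext k
      simp
      rfl
    have hrel : (φ ∘ c) ∈ triv (φ ∘ (t ∘ Fin.castSucc)) := by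
      refine h1 _ ?_
      have := hv0 (Fin.last n)
      rw [Fin.snoc_last, map_neg, neg_eq_zero, map_sum] at this
      simpa using this
    obtain ⟨d, hd, hdc⟩ := exists_lift_triv φ hφ _ hrel
    have he : ∀ k, φ ((c - d) k) = 0 := fun k => by
      have := congrFun hdc k
      simp only [Function.comp_apply] at this
      rw [Pi.sub_apply, map_sub, this, sub_self]
    let w := v' + t (Fin.last n) • d
    have hw : w ∈ triv (t ∘ Fin.castSucc) := add_mem hv' (Submodule.smul_mem _ _ hd)
    have hw0 : ∀ k, φ (w k) = 0 := fun k => by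
      have h2 := hv0 k.castSucc
      rw [Fin.snoc_castSucc] at h2
      have h3 : w k = (v' + t (Fin.last n) • c) k - t (Fin.last n) * (c - d) k := by
        simp [w]; ring
      rw [h3, map_sub, map_mul, he, mul_zero, h2, sub_zero]
    have hdsum : ∑ k, d k * t k.castSucc = 0 := by
      have : triv (t ∘ Fin.castSucc) ≤ LinearMap.ker (Fintype.linearCombination R (t ∘ Fin.castSucc)) := by
        refine Submodule.span_le.2 ?_
        rintro _ ⟨i, j, rfl⟩
        rw [SetLike.mem_coe, LinearMap.mem_ker, map_sub, Fintype.linearCombination_apply_single,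
          Fintype.linearCombination_apply_single, smul_eq_mul, smul_eq_mul]
        ring
      simpa [Fintype.linearCombination_apply] using this hd
    obtain ⟨L, hL, hLt⟩ := emb_mem_triv t
    have hmain : L w ∈ RingHom.ker φ • triv t := by
      have h4 := Submodule.mem_map_of_mem (f := L) (ih _ ht' w hw hw0)
      rw [Submodule.map_smul''] at h4
      exact Submodule.smul_mono le_rfl (Submodule.map_le_iff_le_comap.2 hLt) h4
    have heq : Fin.snoc (v' + t (Fin.last n) • c) (-∑ k, c k * t k.castSucc) =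
        L w + ∑ k, (c - d) k • (Pi.single k.castSucc (t (Fin.last n)) - Pi.single (Fin.last n) (t k.castSucc)) := by
      funext i
      induction i using Fin.lastCases with
      | last =>
        have hdsum' : ∑ k, t k.castSucc * d k = 0 := by simpa [mul_comm] using hdsum
        simp [hL, Pi.single_apply, (Fin.castSucc_ne_last _).symm, mul_sub, Finset.sum_sub_distrib, hdsum', mul_comm]
        rw [hdsum, zero_sub]
      | cast i =>
        simp [hL, w, Pi.single_apply, Fin.castSucc_ne_last, Fin.castSucc_inj, Finset.sum_sub_distrib, mul_comm]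
        ring
    rw [heq]
    exact add_mem hmain (sum_mem fun k _ => Submodule.smul_mem_smul (he k) (triv_gen t _ _))

/-- Nakayama modulo an ideal. -/
theorem nakayama_sup {S : Type u} [CommRing S] [IsLocalRing S] (J I K 𝔞 : Ideal S)
    (ham : 𝔞 ≤ IsLocalRing.maximalIdeal S) (N : Ideal S) (hNfg : N.FG) (hNle : N ≤ J ⊓ I) (hN : J ⊓ I ≤ N ⊔ K)
    (step : ∀ j ∈ J ⊓ I, j ∈ K ⊔ 𝔞 * (J ⊓ I)) : J ⊓ I ≤ K := by
  refine le_trans hN (sup_le ?_ le_rfl)
  refine Submodule.le_of_le_smul_of_le_jacobson_bot (I := 𝔞) hNfg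
    (le_trans ham (IsLocalRing.maximalIdeal_le_jacobson ⊥)) ?_
  intro j hj
  refine (sup_le le_sup_left ?_ : K ⊔ 𝔞 * (J ⊓ I) ≤ K ⊔ 𝔞 • N) (step j (hNle hj))
  refine le_trans (Ideal.mul_mono_right hN) ?_
  rw [Ideal.mul_sup]
  exact sup_le le_sup_right (le_trans (Ideal.mul_le.mpr fun _ _ b hb => Ideal.mul_mem_left K _ hb) le_sup_left)

theorem exists_coeff {S : Type u} [CommRing S] {n : ℕ} (I : Ideal S) (a : Fin n → S) {z : S}
    (hz : z ∈ I * Ideal.span (Set.range a)) : ∃ r : Fin n → S, (∀ i, r i ∈ I) ∧ ∑ i, r i * a i = z := by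
  induction hz using Submodule.mul_induction_on' with
  | mem_mul_mem m hm b hb =>
    obtain ⟨c, rfl⟩ := Ideal.mem_span_range_iff_exists_fun.1 hb
    exact ⟨fun i => m * c i, fun i => I.mul_mem_right _ hm, by simp [Finset.mul_sum, mul_assoc]⟩
  | add x _ y _ hx hy =>
    obtain ⟨r, hr, rfl⟩ := hx
    obtain ⟨q, hq, rfl⟩ := hy
    exact ⟨r + q, fun i => add_mem (hr i) (hq i), by simp [add_mul, Finset.sum_add_distrib]⟩

open Groth.FlatDescent in
set_option maxHeartbeats 1000000 in
theorem flat_quotient_of_h1 {R S T : Type u} [CommRing R] [CommRing S] [CommRing T] [IsLocalRing S] [IsLocalRing T]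
    [Algebra R S] [Algebra R T] [Module.Flat R S] (hS : CAlgX.IsEssFinitePresentation R S)
    (ψ : S →ₐ[R] T) (hψ : Function.Surjective ψ) (hJ : (RingHom.ker ψ.toRingHom).FG)
    {n : ℕ} (t : Fin n → T) (htm : ∀ i, t i ∈ IsLocalRing.maximalIdeal T) (ht : CAlgX.IsH1Regular t)
    (hflat : Module.Flat R (T ⧸ Ideal.span (Set.range t)))
    [IsNoetherianRing (S ⧸ ((IsLocalRing.maximalIdeal S).comap (algebraMap R S)).map (algebraMap R S))] :
    Module.Flat R T := by
  classical
  let J := RingHom.ker ψ.toRingHom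
  let p := (IsLocalRing.maximalIdeal S).comap (algebraMap R S)
  let I := p.map (algebraMap R S)
  choose a ha using fun i => hψ (t i)
  let 𝔞 := Ideal.span (Set.range a)
  have hI : I.map ψ.toRingHom = p.map (algebraMap R T) := by
    rw [Ideal.map_map]
    exact congrArg (Ideal.map · p) ψ.comp_algebraMap
  have ham : 𝔞 ≤ IsLocalRing.maximalIdeal S := Ideal.span_le.2 (by
    rintro _ ⟨i, rfl⟩
    by_contra h
    exact (IsLocalRing.mem_maximalIdeal _).mp (ha i ▸ htm i) ((IsLocalRing.notMem_maximalIdeal.mp h).map ψ))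
  have hpT : p.map (algebraMap R T) ≤ IsLocalRing.maximalIdeal T := by
    rw [← hI]
    refine Ideal.map_le_iff_le_comap.2 fun x hx => ?_
    rw [Ideal.mem_comap, IsLocalRing.mem_maximalIdeal]
    haveI : IsLocalHom ψ.toRingHom := IsLocalHom.of_surjective _ hψ
    exact map_nonunit ψ.toRingHom x (Ideal.map_comap_le hx)
  -- the fibre
  let F := T ⧸ p.map (algebraMap R T)
  let χ : S →+* F := (Ideal.Quotient.mk _).comp ψ.toRingHom
  have hχ : Function.Surjective χ := Ideal.Quotient.mk_surjective.comp hψ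
  have hχk : RingHom.ker χ = I ⊔ J := by
    rw [RingHom.ker, ← Ideal.comap_comap, ← RingHom.ker, Ideal.mk_ker, ← hI,
      Ideal.comap_map_of_surjective ψ.toRingHom (show Function.Surjective ψ.toRingHom from hψ)]
    rfl
  haveI : IsNoetherianRing F := by
    refine isNoetherianRing_of_surjective (S ⧸ I) F (Ideal.Quotient.lift I χ fun x hx => ?_) fun y => ?_
    · exact (RingHom.mem_ker).1 (hχk.ge (Ideal.mem_sup_left hx))
    · obtain ⟨x, rfl⟩ := hχ y
      exact ⟨Ideal.Quotient.mk I x, rfl⟩
  have hwr : IsWeaklyRegular F (List.ofFn (χ ∘ a)) := by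
    have hq : CAlgX.IsQuasiRegular t := S2103.result _ ht
    have h := S8894.weaklyRegular_closedFibre p hpT t htm hflat hq
    convert h using 2
    funext i
    simp [χ, ha]
  -- flatness of the quotient by `J' = J ⊔ 𝔞`
  let J' := J ⊔ 𝔞
  have hflat' : Module.Flat R (S ⧸ J') := by
    let χ' : S →ₐ[R] T ⧸ Ideal.span (Set.range t) := (Ideal.Quotient.mkₐ R _).comp ψ
    have hk : RingHom.ker χ'.toRingHom = J' := by
      show RingHom.ker ((Ideal.Quotient.mk (Ideal.span (Set.range t))).comp ψ.toRingHom) = _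
      rw [RingHom.ker, ← Ideal.comap_comap, ← RingHom.ker, Ideal.mk_ker,
        show Ideal.span (Set.range t) = 𝔞.map ψ.toRingHom by
          rw [Ideal.map_span, ← Set.range_comp]; exact congrArg (fun q => Ideal.span (Set.range q)) (funext fun i => (ha i).symm),
        Ideal.comap_map_of_surjective ψ.toRingHom (show Function.Surjective ψ.toRingHom from hψ)]
      exact sup_comm _ _
    exact Module.Flat.of_linearEquiv ((Ideal.quotientEquivAlgOfEq R hk.symm).trans
      (Ideal.quotientKerAlgEquivOfSurjective (f := χ') (Ideal.Quotient.mk_surjective.comp hψ))).toLinearEquiv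
  obtain ⟨g, G, hG⟩ := Submodule.fg_iff_exists_fin_generating_family.mp hJ
  let π : (Fin g → S) →ₗ[S] S := Fintype.linearCombination S G
  have hπ : LinearMap.range π = J := by rw [Fintype.range_linearCombination]; exact hG
  have hπI : (I • (⊤ : Submodule S (Fin g → S))).map π = I * J := by
    rw [Submodule.map_smul'', Submodule.map_top, hπ]; rfl
  -- modulo `I * J`, `J ⊓ I` lies in `𝔞 * (J ⊓ I)`
  have step : ∀ j ∈ J ⊓ I, j ∈ I * J ⊔ 𝔞 * (J ⊓ I) := by
    rintro j ⟨hj, hjI⟩
    have hC : Module.Flat R (S ⧸ LinearMap.range (Submodule.subtype J')) := by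
      rw [Submodule.range_subtype]; exact hflat'
    have h := LocalFP.mem_smul_of_flat_coker (Submodule.subtype J') (Submodule.injective_subtype J') hC p
      ⟨j, Submodule.mem_sup_left hj⟩ (by rw [Ideal.smul_eq_mul, Ideal.mul_top]; exact hjI)
    have h' := Submodule.mem_map_of_mem (f := Submodule.subtype J') h
    rw [Submodule.map_smul'', Submodule.map_top, Submodule.range_subtype] at h'
    replace h' : j ∈ I * J ⊔ I * 𝔞 := by rw [← Ideal.mul_sup]; exact h'
    obtain ⟨y, hy, z, hz, hyz⟩ := Submodule.mem_sup.mp h'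
    obtain ⟨r, hr, hra⟩ := exists_coeff I a hz
    refine hyz ▸ Submodule.add_mem_sup hy ?_
    have hzJ : z ∈ J := by
      rw [show z = j - y by rw [← hyz]; ring]
      exact sub_mem hj ((Ideal.mul_le.mpr fun _ _ b hb => Ideal.mul_mem_left J _ hb) hy)
    have hrel : (ψ ∘ r) ∈ triv t := ht _ (by
      rw [← show ψ z = 0 from hzJ, ← hra, map_sum]
      exact Finset.sum_congr rfl fun i _ => by rw [map_mul, ha]; rfl)
    have hlift : ∃ v ∈ triv a, ψ.toRingHom ∘ v = ψ ∘ r :=
      exists_lift_triv ψ.toRingHom hψ a (by rwa [show (ψ.toRingHom ∘ a) = t from funext ha])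
    obtain ⟨v, hv, hvr⟩ := hlift
    have hvJ : ∀ i, v i - r i ∈ J := fun i => by
      show ψ (v i - r i) = 0
      rw [map_sub, sub_eq_zero]
      exact congrFun hvr i
    have hvK : ∀ i, χ (v i) = 0 := fun i => by
      rw [← RingHom.mem_ker, hχk, ← add_sub_cancel (r i) (v i)]
      exact Submodule.add_mem_sup (hr i) (hvJ i)
    have hdec := mem_smul_triv χ hχ n a hwr v hv hvK
    rw [hχk, Submodule.sup_smul] at hdec
    obtain ⟨vI, hvI, vJ, hvJ', hvv⟩ := Submodule.mem_sup.mp hdec
    have hvI0 : ∑ i, vI i * a i = 0 := by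
      have : I • triv a ≤ LinearMap.ker (Fintype.linearCombination S a) := by
        refine le_trans Submodule.smul_le_right (Submodule.span_le.2 ?_)
        rintro _ ⟨i, j, rfl⟩
        rw [SetLike.mem_coe, LinearMap.mem_ker, map_sub, Fintype.linearCombination_apply_single,
          Fintype.linearCombination_apply_single, smul_eq_mul, smul_eq_mul]
        ring
      simpa [Fintype.linearCombination_apply] using this hvI
    have hent : ∀ (K : Ideal S) (w : Fin n → S), w ∈ K • triv a → ∀ i, w i ∈ K := fun K w hw i => by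
      induction hw using Submodule.smul_induction_on' with
      | smul c hc m _ => exact K.mul_mem_right _ hc
      | add x _ y _ hx hy => exact add_mem hx hy
    rw [show z = ∑ i, (r i - vI i) * a i by
      simp only [sub_mul, Finset.sum_sub_distrib, hvI0, sub_zero, hra]]
    refine sum_mem fun i _ => ?_
    rw [mul_comm (r i - vI i) (a i)]
    refine Ideal.mul_mem_mul (show a i ∈ 𝔞 from Ideal.subset_span (s := Set.range a) ⟨i, rfl⟩) ⟨?_, sub_mem (hr i) (hent I vI hvI i)⟩
    have hi : vI i + vJ i = v i := congrFun hvv i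
    rw [show r i - vI i = vJ i - (v i - r i) by rw [← hi]; ring]
    exact sub_mem (hent J vJ hvJ' i) (hvJ i)
  obtain ⟨L₀, hL₀fg, hL₀le, hL₀⟩ := DivFlatFP.exists_fg_le_sup I (Submodule.comap π I)
  have hN : J ⊓ I ≤ L₀.map π ⊔ I * J := by
    rintro j ⟨hj, hjI⟩
    obtain ⟨v, rfl⟩ := hπ.ge hj
    rw [← hπI, ← Submodule.map_sup]
    exact Submodule.mem_map_of_mem (hL₀ hjI)
  have hle : J ⊓ I ≤ I * J :=
    nakayama_sup J I (I * J) 𝔞 ham (L₀.map π) (hL₀fg.map π) (fun j hj => by
      obtain ⟨v, hv, rfl⟩ := Submodule.mem_map.mp hj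
      exact ⟨hπ.le ⟨v, rfl⟩, hL₀le hv⟩) hN step
  obtain ⟨K₀, hK₀fg, hK₀le, hK₀⟩ := DivFlatFP.exists_fg_le_sup I (LinearMap.ker π)
  haveI : Module.FinitePresentation S ((Fin g → S) ⧸ K₀) :=
    Module.finitePresentation_of_surjective K₀.mkQ (Submodule.mkQ_surjective K₀) (by rw [Submodule.ker_mkQ]; exact hK₀fg)
  let u : ((Fin g → S) ⧸ K₀) →ₗ[S] S := K₀.liftQ π hK₀le
  have hu : ∀ x, u x ∈ I • (⊤ : Submodule S S) → x ∈ I • (⊤ : Submodule S ((Fin g → S) ⧸ K₀)) := by
    intro x hx
    obtain ⟨v, rfl⟩ := Submodule.Quotient.mk_surjective _ x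
    rw [Ideal.smul_eq_mul, Ideal.mul_top] at hx
    have h1 : π v ∈ (I • (⊤ : Submodule S (Fin g → S))).map π := hπI ▸ hle ⟨hπ.le ⟨v, rfl⟩, hx⟩
    obtain ⟨w, hw, hwv⟩ := Submodule.mem_map.mp h1
    obtain ⟨k, hk, w', hw', hkw⟩ := Submodule.mem_sup.mp (hK₀ (show v - w ∈ LinearMap.ker π by
      rw [LinearMap.mem_ker, map_sub, hwv, sub_self]))
    have hv : (Submodule.Quotient.mk v : (Fin g → S) ⧸ K₀) = K₀.mkQ (w' + w) := by
      refine (Submodule.Quotient.eq K₀).mpr ?_
      have he : v - (w' + w) = k := by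
        rw [show v - (w' + w) = (v - w) - w' by abel, ← hkw]; abel
      rw [he]; exact hk
    rw [hv]
    have h2 := Submodule.mem_map_of_mem (f := K₀.mkQ) (add_mem hw' hw)
    rw [Submodule.map_smul'', Submodule.map_top] at h2
    exact Submodule.smul_mono le_rfl le_top h2
  obtain ⟨-, hflat''⟩ := LocalFP.injective_and_flat_coker hS u hu
  have hr : LinearMap.range u = J := by rw [Submodule.range_liftQ, hπ]
  haveI : Module.Flat R (S ⧸ J) :=
    Module.Flat.of_linearEquiv ((Submodule.quotEquivOfEq _ _ hr).restrictScalars R).symm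
  haveI : Module.Flat R (S ⧸ RingHom.ker ψ) := by assumption
  exact Module.Flat.of_linearEquiv (Ideal.quotientKerAlgEquivOfSurjective (f := ψ) hψ).symm.toLinearEquiv

open Groth.FlatDescent in
/-- `H_1`-regular with flat quotient forces flatness at the prime. -/
theorem flat_atPrime {A B T : Type u} [CommRing A] [CommRing B] [CommRing T] [Algebra A B] [Algebra.FinitePresentation A B]
    (q : Ideal B) [q.IsPrime] [Algebra B T] [Algebra A T] [IsScalarTower A B T] [IsLocalization.AtPrime T q]
    [IsLocalRing T] {m : ℕ} (t : Fin m → T) (htm : ∀ i, t i ∈ IsLocalRing.maximalIdeal T) (ht : CAlgX.IsH1Regular t)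
    (hflat : Module.Flat A (T ⧸ Ideal.span (Set.range t))) : Module.Flat A T := by
  obtain ⟨n, π, hπ, hker⟩ := Algebra.FinitePresentation.out (R := A) (A := B)
  let P := MvPolynomial (Fin n) A
  let Q : Ideal P := q.comap π.toRingHom
  let S := Localization.AtPrime Q
  let ψ₀ : P →ₐ[A] T := (IsScalarTower.toAlgHom A B T).comp π
  have hψu : ∀ s : Q.primeCompl, IsUnit (ψ₀ s) := fun s => IsLocalization.map_units T (⟨π s, s.2⟩ : q.primeCompl)
  let ψ : S →ₐ[A] T := IsLocalization.liftAlgHom (M := Q.primeCompl) (f := ψ₀) hψu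
  have hψ : ∀ b : P, ψ (algebraMap P S b) = algebraMap B T (π b) := fun b => IsLocalization.lift_eq _ _
  let J : Ideal S := (RingHom.ker π.toRingHom).map (algebraMap P S)
  have hψs : Function.Surjective ψ := by
    intro x
    obtain ⟨⟨b, s⟩, hbs⟩ := IsLocalization.surj q.primeCompl x
    obtain ⟨b', rfl⟩ := hπ b
    obtain ⟨s', hs'⟩ := hπ s
    have hs'Q : s' ∈ Q.primeCompl := fun h => s.2 (by rw [← hs']; exact h)
    refine ⟨IsLocalization.mk' S b' (⟨s', hs'Q⟩ : Q.primeCompl), ?_⟩
    refine (IsLocalization.map_units T s).mul_right_cancel ?_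
    rw [hbs, ← hψ b', ← hs', ← hψ s', ← map_mul]
    exact congrArg ψ (IsLocalization.mk'_spec S b' (⟨s', hs'Q⟩ : Q.primeCompl))
  have hψk : RingHom.ker ψ.toRingHom = J := by
    refine le_antisymm (fun x hx => ?_) (Ideal.map_le_iff_le_comap.mpr fun b hb => ?_)
    · obtain ⟨⟨b, s⟩, hbs⟩ := IsLocalization.surj Q.primeCompl x
      have h0 : algebraMap B T (π b) = 0 := by
        rw [← hψ b, ← hbs, map_mul, show ψ x = 0 from hx, zero_mul]
      obtain ⟨c, hc⟩ := (IsLocalization.map_eq_zero_iff q.primeCompl T _).mp h0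
      obtain ⟨c', hc'⟩ := hπ c
      have hc'Q : c' ∈ Q.primeCompl := fun h => c.2 (by rw [← hc']; exact h)
      have hmem : algebraMap P S (c' * b) ∈ J := Ideal.mem_map_of_mem _ (by
        rw [RingHom.mem_ker, map_mul]
        show π c' * π b = 0
        rw [hc', hc])
      rw [map_mul, ← hbs, ← mul_assoc, mul_comm _ x, mul_assoc] at hmem
      exact (Ideal.mul_unit_mem_iff_mem _ ((IsLocalization.map_units S (⟨c', hc'Q⟩ : Q.primeCompl)).mul
        (IsLocalization.map_units S s))).mp hmem
    · show ψ (algebraMap P S b) = 0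
      rw [hψ, show π b = 0 from hb, map_zero]
  haveI : Module.Flat P S := IsLocalization.flat S Q.primeCompl
  haveI : Module.Flat A S := Module.Flat.trans A P S
  haveI := DivFlatFP.isNoetherianRing_fibre Q S
  have hS : CAlgX.IsEssFinitePresentation A S :=
    ⟨P, inferInstance, inferInstance, inferInstance, inferInstance, Q.primeCompl, inferInstance, inferInstance⟩
  exact flat_quotient_of_h1 hS ψ hψs (hψk ▸ Ideal.FG.map hker _) t htm ht hflat

end Groth.Agent.H1Flat
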